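import Cfsg.Agent.H10.TCLite
import Cfsg.Agent.H10.Small

/-! Moore's presentation of the alternating groups `A₄, …, A₈`: `Moore g L`, index bounds
`Moore.relIndex_le_seven`, order bounds `Moore.card_le_360`, `Moore.card_le_20160`, and the
homomorphism `Moore.exists_hom_A8`. -/

set_option autoImplicit false

namespace H10

open Subgroup

theorem chkA4 : TC.chk [[0, 3, 1, 2], [1, 0, 3, 2]]
    [[], [1], [0, 0, 1], [0, 1]]
    [[0, 0, 0], [1, 1], [0, 1, 0, 1, 0, 1]] [[0]] 2 4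
    [(0, 0, 4, 0), (0, 1, 0, 0), (1, 1, 2, 0), (1, 0, 0, 0), (3, 0, 0, 0), (2, 0, 1, 0), (3, 1, 3,
    1), (2, 1, 2, 0)] = true := by decide +kernel

theorem chkA5 : TC.chk [[0, 1, 4, 2, 3], [0, 2, 1, 4, 3], [1, 0, 2, 4, 3]]
    [[], [2], [1, 2], [0, 0, 1, 2], [0, 1, 2]]
    [[0, 0, 0], [1, 1], [2, 2], [0, 1, 0, 1, 0, 1], [1, 2, 1, 2, 1, 2], [0, 2, 0, 2]] [[0], [1]] 3
    5
    [(0, 0, 7, 0), (0, 1, 8, 0), (0, 2, 0, 0), (1, 2, 3, 0), (1, 0, 6, 0), (1, 1, 0, 0), (2, 1, 2,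
    0), (2, 2, 5, 1), (2, 0, 0, 0), (4, 0, 0, 0), (3, 0, 1, 0), (4, 1, 4, 1), (4, 2, 6, 1), (3, 1,
    2, 0), (3, 2, 3, 0)] = true := by decide +kernel

theorem chkA6 : TC.chk [[0, 1, 2, 5, 3, 4], [0, 1, 3, 2, 5, 4], [0, 2, 1, 3, 5, 4], [1, 0, 2, 3,
    5, 4]]
    [[], [3], [2, 3], [1, 2, 3], [0, 0, 1, 2, 3], [0, 1, 2, 3]]
    [[0, 0, 0], [1, 1], [2, 2], [3, 3], [0, 1, 0, 1, 0, 1], [1, 2, 1, 2, 1, 2], [2, 3, 2, 3, 2,
    3], [0, 2, 0, 2], [0, 3, 0, 3], [1, 3, 1, 3]] [[0], [1], [2]] 4 6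
    [(0, 0, 11, 0), (0, 1, 12, 0), (0, 2, 13, 0), (0, 3, 0, 0), (1, 3, 4, 0), (1, 0, 9, 0), (1, 1,
    10, 0), (1, 2, 0, 0), (2, 2, 3, 0), (2, 3, 7, 1), (2, 0, 8, 0), (2, 1, 0, 0), (3, 1, 2, 0),
    (3, 2, 6, 1), (3, 3, 10, 1), (3, 0, 0, 0), (5, 0, 0, 0), (4, 0, 1, 0), (5, 1, 5, 1), (5, 2, 8,
    1), (5, 3, 9, 1), (4, 1, 2, 0), (4, 2, 3, 0), (4, 3, 4, 0)] = true := by decide +kernel

theorem chkA7 : TC.chk [[0, 1, 2, 3, 6, 4, 5], [0, 1, 2, 4, 3, 6, 5], [0, 1, 3, 2, 4, 6, 5], [0,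
    2, 1, 3, 4, 6, 5], [1, 0, 2, 3, 4, 6, 5]]
    [[], [4], [3, 4], [2, 3, 4], [1, 2, 3, 4], [0, 0, 1, 2, 3, 4], [0, 1, 2, 3, 4]]
    [[0, 0, 0], [1, 1], [2, 2], [3, 3], [4, 4], [0, 1, 0, 1, 0, 1], [1, 2, 1, 2, 1, 2], [2, 3, 2,
    3, 2, 3], [3, 4, 3, 4, 3, 4], [0, 2, 0, 2], [0, 3, 0, 3], [0, 4, 0, 4], [1, 3, 1, 3], [1, 4,
    1, 4], [2, 4, 2, 4]] [[0], [1], [2], [3]] 5 7
    [(0, 0, 16, 0), (0, 1, 17, 0), (0, 2, 18, 0), (0, 3, 19, 0), (0, 4, 0, 0), (1, 4, 5, 0), (1,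
    0, 12, 0), (1, 1, 14, 0), (1, 2, 15, 0), (1, 3, 0, 0), (2, 3, 4, 0), (2, 4, 9, 1), (2, 0, 11,
    0), (2, 1, 13, 0), (2, 2, 0, 0), (3, 2, 3, 0), (3, 3, 8, 1), (3, 0, 10, 0), (3, 4, 15, 1), (3,
    1, 0, 0), (4, 1, 2, 0), (4, 2, 7, 1), (4, 3, 13, 1), (4, 4, 14, 1), (4, 0, 0, 0), (6, 0, 0,
    0), (5, 0, 1, 0), (6, 1, 6, 1), (6, 2, 10, 1), (6, 3, 11, 1), (6, 4, 12, 1), (5, 1, 2, 0), (5,
    2, 3, 0), (5, 3, 4, 0), (5, 4, 5, 0)] = true := by decide +kernel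

theorem chkA8 : TC.chk [[0, 1, 2, 3, 4, 7, 5, 6], [0, 1, 2, 3, 5, 4, 7, 6], [0, 1, 2, 4, 3, 5, 7,
    6], [0, 1, 3, 2, 4, 5, 7, 6], [0, 2, 1, 3, 4, 5, 7, 6], [1, 0, 2, 3, 4, 5, 7, 6]]
    [[], [5], [4, 5], [3, 4, 5], [2, 3, 4, 5], [1, 2, 3, 4, 5], [0, 0, 1, 2, 3, 4, 5], [0, 1, 2,
    3, 4, 5]]
    [[0, 0, 0], [1, 1], [2, 2], [3, 3], [4, 4], [5, 5], [0, 1, 0, 1, 0, 1], [1, 2, 1, 2, 1, 2],
    [2, 3, 2, 3, 2, 3], [3, 4, 3, 4, 3, 4], [4, 5, 4, 5, 4, 5], [0, 2, 0, 2], [0, 3, 0, 3], [0, 4,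
    0, 4], [0, 5, 0, 5], [1, 3, 1, 3], [1, 4, 1, 4], [1, 5, 1, 5], [2, 4, 2, 4], [2, 5, 2, 5], [3,
    5, 3, 5]] [[0], [1], [2], [3], [4]] 6 8
    [(0, 0, 22, 0), (0, 1, 23, 0), (0, 2, 24, 0), (0, 3, 25, 0), (0, 4, 26, 0), (0, 5, 0, 0), (1,
    5, 6, 0), (1, 0, 15, 0), (1, 1, 18, 0), (1, 2, 20, 0), (1, 3, 21, 0), (1, 4, 0, 0), (2, 4, 5,
    0), (2, 5, 11, 1), (2, 0, 14, 0), (2, 1, 17, 0), (2, 2, 19, 0), (2, 3, 0, 0), (3, 3, 4, 0),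
    (3, 4, 10, 1), (3, 0, 13, 0), (3, 1, 16, 0), (3, 5, 21, 1), (3, 2, 0, 0), (4, 2, 3, 0), (4, 3,
    9, 1), (4, 0, 12, 0), (4, 4, 19, 1), (4, 5, 20, 1), (4, 1, 0, 0), (5, 1, 2, 0), (5, 2, 8, 1),
    (5, 3, 16, 1), (5, 4, 17, 1), (5, 5, 18, 1), (5, 0, 0, 0), (7, 0, 0, 0), (6, 0, 1, 0), (7, 1,
    7, 1), (7, 2, 12, 1), (7, 3, 13, 1), (7, 4, 14, 1), (7, 5, 15, 1), (6, 1, 2, 0), (6, 2, 3, 0),
    (6, 3, 4, 0), (6, 4, 5, 0), (6, 5, 6, 0)] = true := by decide +kernel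


variable {G : Type*} [Group G]

/-- Moore's relations on `g 0, …, g (L - 1)`. -/
structure Moore (g : ℕ → G) (L : ℕ) : Prop where
  cube : g 0 ^ 3 = 1
  sq : ∀ i, 0 < i → i < L → g i ^ 2 = 1
  braid : ∀ i, i + 1 < L → (g i * g (i + 1)) ^ 3 = 1
  comm : ∀ i j, i + 2 ≤ j → j < L → (g i * g j) ^ 2 = 1

namespace Moore

variable {g : ℕ → G} {L : ℕ}

theorem mono (h : Moore g (L + 1)) : Moore g L :=
  ⟨h.cube, fun i a b => h.sq i a (by omega), fun i a => h.braid i (by omega),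
    fun i j a b => h.comm i j a (by omega)⟩

/-- The relators as words. -/
def ok (L : ℕ) (w : List ℕ) : Bool :=
  w = [0, 0, 0] || (List.range L).any fun j => (0 < j && w = [j, j]) ||
    (List.range L).any fun i => (i + 1 = j && w = [i, j, i, j, i, j]) || (i + 2 ≤ j && w = [i, j, i, j])

theorem ev_eq_one (h : Moore g L) {w : List ℕ} (hw : ok L w = true) : TC.ev g w = 1 := by
  simp only [ok, Bool.or_eq_true, decide_eq_true_eq, List.any_eq_true, List.mem_range,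
    Bool.and_eq_true] at hw
  rcases hw with rfl | ⟨j, hj, ⟨h1, rfl⟩ | ⟨i, -, ⟨rfl, rfl⟩ | ⟨h1, rfl⟩⟩⟩
  · simpa [pow_succ, mul_assoc] using h.cube
  · simpa [pow_succ, mul_assoc] using h.sq j h1 hj
  · simpa [pow_succ, mul_assoc] using h.braid i hj
  · simpa [pow_succ, mul_assoc] using h.comm i j h1 hj

theorem relIndex_le (h : Moore g (L + 1)) {T W rels subs : List (List ℕ)} {n : ℕ}
    {cs : List (ℕ × ℕ × ℕ × ℕ)} (hc : TC.chk T W rels subs (L + 1) n cs = true)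
    (hr : rels.all (ok (L + 1)) = true) (hs : subs = (List.range L).map fun i => [i]) :
    (closure (g '' Set.Iio L)).relIndex (closure (g '' Set.Iio (L + 1))) ≠ 0 ∧
      (closure (g '' Set.Iio L)).relIndex (closure (g '' Set.Iio (L + 1))) ≤ n := by
  refine TC.relIndex_le _ (fun r hr' => h.ev_eq_one (List.all_eq_true.1 hr r hr')) ?_ hc
  subst hs
  simp only [List.mem_map, List.mem_range]
  rintro _ ⟨i, hi, rfl⟩
  simpa using subset_closure (k := g '' Set.Iio L) ⟨i, hi, rfl⟩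

theorem step {n m : ℕ}
    (h1 : (closure (g '' Set.Iio L)).relIndex (closure (g '' Set.Iio (L + 1))) ≠ 0 ∧
      (closure (g '' Set.Iio L)).relIndex (closure (g '' Set.Iio (L + 1))) ≤ n)
    (h2 : Nat.card (closure (g '' Set.Iio L)) ≠ 0 ∧ Nat.card (closure (g '' Set.Iio L)) ≤ m) :
    Nat.card (closure (g '' Set.Iio (L + 1))) ≠ 0 ∧
      Nat.card (closure (g '' Set.Iio (L + 1))) ≤ m * n := by
  have hle : closure (g '' Set.Iio L) ≤ closure (g '' Set.Iio (L + 1)) :=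
    closure_mono (Set.image_mono (Set.Iio_subset_Iio (by omega)))
  rw [← card_mul_index ((closure (g '' Set.Iio L)).subgroupOf _),
    Nat.card_congr (subgroupOfEquivOfLe hle).toEquiv]
  exact ⟨mul_ne_zero h2.1 h1.1, Nat.mul_le_mul h2.2 h1.2⟩

theorem card_one (h : Moore g L) :
    Nat.card (closure (g '' Set.Iio 1)) ≠ 0 ∧ Nat.card (closure (g '' Set.Iio 1)) ≤ 3 := by
  rw [show Set.Iio 1 = ({0} : Set ℕ) by ext; simp, Set.image_singleton, ← zpowers_eq_closure,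
    Nat.card_zpowers]
  have := orderOf_dvd_of_pow_eq_one h.cube
  exact ⟨fun e => by rw [e] at this; omega, Nat.le_of_dvd (by norm_num) this⟩

theorem card_le_360 (h : Moore g 4) :
    Nat.card (closure (g '' Set.Iio 4)) ≠ 0 ∧ Nat.card (closure (g '' Set.Iio 4)) ≤ 360 :=
  step (h.relIndex_le chkA6 (by decide) rfl) (step (h.mono.relIndex_le chkA5 (by decide) rfl)
    (step (h.mono.mono.relIndex_le chkA4 (by decide) rfl) h.card_one))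

theorem relIndex_le_seven (h : Moore g 5) :
    (closure (g '' Set.Iio 4)).relIndex (closure (g '' Set.Iio 5)) ≠ 0 ∧
      (closure (g '' Set.Iio 4)).relIndex (closure (g '' Set.Iio 5)) ≤ 7 :=
  h.relIndex_le chkA7 (by decide) rfl

theorem card_le_20160 (h : Moore g 6) :
    Nat.card (closure (g '' Set.Iio 6)) ≠ 0 ∧ Nat.card (closure (g '' Set.Iio 6)) ≤ 20160 :=
  step (h.relIndex_le chkA8 (by decide) rfl) (step h.mono.relIndex_le_seven h.mono.mono.card_le_360)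

theorem prod {H : Type*} [Group H] {a : ℕ → H} (ha : Moore a L) (h : Moore g L) :
    Moore (fun i => (a i, g i)) L :=
  ⟨Prod.ext ha.cube h.cube, fun i b c => Prod.ext (ha.sq i b c) (h.sq i b c),
    fun i b => Prod.ext (ha.braid i b) (h.braid i b),
    fun i j b c => Prod.ext (ha.comm i j b c) (h.comm i j b c)⟩

end Moore

end H10
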