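import Cfsg.Agent.H10.TCLite
import Cfsg.Agent.H10.Small
import Mathlib.GroupTheory.SpecificGroups.Alternating.KleinFour

/-! The polyhedral presentations: `a² = b³ = (ab)ⁿ = 1` for `n = 3, 4, 5` gives homomorphisms from
`A₄`, `S₄`, `A₅` (`exists_hom_A4`, `exists_hom_S4`, `exists_hom_A5`) and embeddings
(`exists_injective_A4`, `exists_injective_S4`, `exists_injective_A5`); `alt_index_ne_two`. -/

set_option autoImplicit false

namespace H10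

open Subgroup Equiv

theorem chk233 : TC.chk [[1, 0, 4, 6, 2, 9, 3, 8, 7, 5, 11, 10], [2, 3, 5, 7, 8, 0, 9, 1, 10, 11, 4,
    6]]
    [[], [0], [1], [1, 0], [0, 1], [1, 1], [0, 1, 0], [1, 1, 0], [1, 0, 1], [0, 1, 1], [1, 1, 0, 1],
    [1, 0, 1, 1]]
    [[0, 0], [1, 1, 1], [0, 1, 0, 1, 0, 1]] [] 2 12
    [(0, 0, 0, 0), (1, 0, 1, 0), (0, 1, 0, 0), (1, 1, 0, 0), (2, 0, 0, 0), (4, 0, 1, 0), (2, 1, 0,
    0), (5, 1, 2, 0), (3, 0, 0, 0), (6, 0, 1, 0), (3, 1, 0, 0), (7, 1, 2, 0), (4, 1, 0, 0), (8, 0,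
    3, 0), (7, 0, 1, 0), (5, 0, 0, 0), (9, 0, 1, 0), (6, 1, 3, 1), (8, 1, 0, 0), (10, 1, 2, 0),
    (9, 1, 0, 0), (11, 1, 2, 0), (11, 0, 3, 0), (10, 0, 1, 0)] = true := by decide +kernel

theorem chk234 : TC.chk [[1, 0, 4, 6, 2, 9, 3, 11, 12, 5, 15, 7, 8, 18, 19, 10, 20, 21, 13, 14, 16,
    17, 23, 22], [2, 3, 5, 7, 8, 0, 10, 1, 13, 14, 16, 17, 11, 4, 15, 9, 6, 12, 22, 18, 23, 20,
    19, 21]]
    [[], [0], [1], [1, 0], [0, 1], [1, 1], [0, 1, 0], [1, 1, 0], [1, 0, 1], [0, 1, 1], [1, 0, 1, 0],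
    [0, 1, 1, 0], [0, 1, 0, 1], [1, 1, 0, 1], [1, 0, 1, 1], [0, 1, 0, 1, 0], [1, 1, 0, 1, 0], [1,
    0, 1, 1, 0], [0, 1, 1, 0, 1], [0, 1, 0, 1, 1], [0, 1, 1, 0, 1, 0], [0, 1, 0, 1, 1, 0], [1, 0,
    1, 1, 0, 1], [1, 0, 1, 1, 0, 1, 0]]
    [[0, 0], [1, 1, 1], [0, 1, 0, 1, 0, 1, 0, 1]] [] 2 24
    [(0, 0, 0, 0), (1, 0, 1, 0), (0, 1, 0, 0), (1, 1, 0, 0), (2, 0, 0, 0), (4, 0, 1, 0), (2, 1, 0,
    0), (5, 1, 2, 0), (3, 0, 0, 0), (6, 0, 1, 0), (3, 1, 0, 0), (7, 1, 2, 0), (4, 1, 0, 0), (5, 0,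
    0, 0), (9, 0, 1, 0), (6, 1, 0, 0), (7, 0, 0, 0), (11, 0, 1, 0), (8, 0, 0, 0), (12, 0, 1, 0),
    (12, 1, 3, 1), (8, 1, 0, 0), (13, 1, 2, 0), (9, 1, 0, 0), (10, 0, 0, 0), (15, 1, 3, 1), (15,
    0, 1, 0), (14, 1, 2, 0), (10, 1, 0, 0), (16, 1, 2, 0), (11, 1, 0, 0), (17, 1, 2, 0), (13, 0,
    0, 0), (18, 0, 1, 0), (14, 0, 0, 0), (19, 0, 1, 0), (19, 1, 3, 1), (16, 0, 0, 0), (20, 0, 1,
    0), (17, 0, 0, 0), (21, 0, 1, 0), (21, 1, 3, 1), (18, 1, 0, 0), (22, 1, 2, 0), (20, 1, 0, 0),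
    (23, 1, 2, 0), (23, 0, 3, 0), (22, 0, 1, 0)] = true := by decide +kernel

theorem chk235 : TC.chk [[1, 0, 4, 6, 2, 9, 3, 11, 12, 5, 15, 7, 8, 19, 20, 10, 23, 24, 25, 13, 14,
    22, 21, 16, 17, 18, 32, 33, 34, 36, 37, 38, 26, 27, 28, 42, 29, 30, 31, 45, 46, 47, 35, 50,
    51, 39, 40, 41, 54, 55, 43, 44, 56, 57, 48, 49, 52, 53, 59, 58], [2, 3, 5, 7, 8, 0, 10, 1, 13,
    14, 16, 17, 18, 4, 21, 22, 6, 25, 26, 27, 28, 9, 29, 30, 31, 11, 12, 34, 35, 15, 38, 39, 40,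
    41, 19, 20, 43, 44, 23, 24, 47, 48, 49, 51, 52, 53, 45, 32, 33, 50, 42, 36, 37, 46, 58, 54,
    59, 56, 55, 57]]
    [[], [0], [1], [1, 0], [0, 1], [1, 1], [0, 1, 0], [1, 1, 0], [1, 0, 1], [0, 1, 1], [1, 0, 1, 0],
    [0, 1, 1, 0], [0, 1, 0, 1], [1, 1, 0, 1], [1, 0, 1, 1], [0, 1, 0, 1, 0], [1, 1, 0, 1, 0], [1,
    0, 1, 1, 0], [1, 0, 1, 0, 1], [0, 1, 1, 0, 1], [0, 1, 0, 1, 1], [1, 1, 0, 1, 1], [1, 0, 1, 0,
    1, 0], [0, 1, 1, 0, 1, 0], [0, 1, 0, 1, 1, 0], [1, 1, 0, 1, 1, 0], [1, 1, 0, 1, 0, 1], [1, 0,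
    1, 1, 0, 1], [1, 0, 1, 0, 1, 1], [1, 1, 0, 1, 0, 1, 0], [1, 0, 1, 1, 0, 1, 0], [1, 0, 1, 0, 1,
    1, 0], [0, 1, 1, 0, 1, 0, 1], [0, 1, 0, 1, 1, 0, 1], [1, 1, 0, 1, 1, 0, 1], [1, 1, 0, 1, 0, 1,
    1], [0, 1, 1, 0, 1, 0, 1, 0], [0, 1, 0, 1, 1, 0, 1, 0], [1, 1, 0, 1, 1, 0, 1, 0], [1, 1, 0, 1,
    0, 1, 1, 0], [1, 0, 1, 1, 0, 1, 0, 1], [1, 0, 1, 0, 1, 1, 0, 1], [0, 1, 1, 0, 1, 0, 1, 1], [1,
    0, 1, 1, 0, 1, 0, 1, 0], [1, 0, 1, 0, 1, 1, 0, 1, 0], [0, 1, 1, 0, 1, 0, 1, 1, 0], [0, 1, 0,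
    1, 1, 0, 1, 0, 1], [1, 1, 0, 1, 1, 0, 1, 0, 1], [1, 1, 0, 1, 0, 1, 1, 0, 1], [1, 0, 1, 1, 0,
    1, 0, 1, 1], [0, 1, 0, 1, 1, 0, 1, 0, 1, 0], [1, 1, 0, 1, 1, 0, 1, 0, 1, 0], [1, 1, 0, 1, 0,
    1, 1, 0, 1, 0], [1, 0, 1, 1, 0, 1, 0, 1, 1, 0], [0, 1, 1, 0, 1, 0, 1, 1, 0, 1], [0, 1, 0, 1,
    1, 0, 1, 0, 1, 1], [0, 1, 1, 0, 1, 0, 1, 1, 0, 1, 0], [0, 1, 0, 1, 1, 0, 1, 0, 1, 1, 0], [1,
    0, 1, 1, 0, 1, 0, 1, 1, 0, 1], [1, 0, 1, 1, 0, 1, 0, 1, 1, 0, 1, 0]]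
    [[0, 0], [1, 1, 1], [0, 1, 0, 1, 0, 1, 0, 1, 0, 1]] [] 2 60
    [(0, 0, 0, 0), (1, 0, 1, 0), (0, 1, 0, 0), (1, 1, 0, 0), (2, 0, 0, 0), (4, 0, 1, 0), (2, 1, 0,
    0), (5, 1, 2, 0), (3, 0, 0, 0), (6, 0, 1, 0), (3, 1, 0, 0), (7, 1, 2, 0), (4, 1, 0, 0), (5, 0,
    0, 0), (9, 0, 1, 0), (6, 1, 0, 0), (7, 0, 0, 0), (11, 0, 1, 0), (8, 0, 0, 0), (12, 0, 1, 0),
    (8, 1, 0, 0), (13, 1, 2, 0), (9, 1, 0, 0), (10, 0, 0, 0), (15, 0, 1, 0), (10, 1, 0, 0), (16,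
    1, 2, 0), (11, 1, 0, 0), (12, 1, 0, 0), (13, 0, 0, 0), (19, 0, 1, 0), (14, 0, 0, 0), (20, 0,
    1, 0), (14, 1, 0, 0), (21, 1, 2, 0), (15, 1, 0, 0), (22, 0, 3, 0), (21, 0, 1, 0), (16, 0, 0,
    0), (23, 0, 1, 0), (17, 0, 0, 0), (24, 0, 1, 0), (17, 1, 0, 0), (25, 1, 2, 0), (18, 0, 3, 0),
    (25, 0, 1, 0), (18, 1, 0, 0), (26, 1, 2, 0), (19, 1, 0, 0), (20, 1, 0, 0), (22, 1, 0, 0), (29,
    1, 2, 0), (23, 1, 0, 0), (24, 1, 0, 0), (26, 0, 0, 0), (32, 0, 1, 0), (27, 0, 0, 0), (33, 0,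
    1, 0), (27, 1, 0, 0), (34, 1, 2, 0), (28, 0, 3, 0), (34, 0, 1, 0), (28, 1, 0, 0), (35, 1, 2,
    0), (29, 0, 0, 0), (36, 0, 1, 0), (30, 0, 0, 0), (37, 0, 1, 0), (30, 1, 0, 0), (38, 1, 2, 0),
    (31, 0, 3, 0), (38, 0, 1, 0), (31, 1, 0, 0), (39, 1, 2, 0), (32, 1, 0, 0), (33, 1, 0, 0), (35,
    0, 0, 0), (42, 0, 1, 0), (36, 1, 0, 0), (37, 1, 0, 0), (39, 0, 0, 0), (45, 0, 1, 0), (40, 0,
    0, 0), (46, 0, 1, 0), (46, 1, 3, 1), (40, 1, 0, 0), (47, 1, 2, 0), (41, 0, 3, 0), (47, 0, 1,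
    0), (41, 1, 0, 0), (48, 1, 2, 0), (42, 1, 0, 0), (43, 0, 0, 0), (50, 1, 3, 1), (50, 0, 1, 0),
    (49, 1, 2, 0), (43, 1, 0, 0), (51, 1, 2, 0), (44, 0, 3, 0), (51, 0, 1, 0), (44, 1, 0, 0), (52,
    1, 2, 0), (45, 1, 0, 0), (53, 1, 2, 0), (48, 0, 0, 0), (54, 0, 1, 0), (49, 0, 0, 0), (55, 0,
    1, 0), (55, 1, 3, 1), (52, 0, 0, 0), (56, 0, 1, 0), (53, 0, 0, 0), (57, 0, 1, 0), (57, 1, 3,
    1), (54, 1, 0, 0), (58, 1, 2, 0), (56, 1, 0, 0), (59, 1, 2, 0), (59, 0, 3, 0), (58, 0, 1, 0)]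
    = true := by decide +kernel


variable {G : Type*} [Group G]

theorem card_closure_23n {a b : G} {m n : ℕ} {T W : List (List ℕ)} {r : List ℕ}
    {cs : List (ℕ × ℕ × ℕ × ℕ)} (hc : TC.chk T W [[0, 0], [1, 1, 1], r] [] 2 n cs = true)
    (hr : r = (List.replicate m [0, 1]).flatten) (ha : a ^ 2 = 1) (hb : b ^ 3 = 1)
    (hab : (a * b) ^ m = 1) :
    Finite (closure ({a, b} : Set G)) ∧ Nat.card (closure ({a, b} : Set G)) ≤ n := by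
  let g : ℕ → G := fun i => if i = 0 then a else b
  have e : g '' Set.Iio 2 = {a, b} := by
    rw [show Set.Iio 2 = ({0, 1} : Set ℕ) by ext; simp; omega, Set.image_pair]; rfl
  rw [← e]
  refine TC.card_closure_le (fun w hw => ?_) hc
  simp only [List.mem_cons, List.not_mem_nil, or_false] at hw
  rcases hw with rfl | rfl | rfl
  · simpa [g, pow_two] using ha
  · simpa [g, pow_succ, mul_assoc] using hb
  · rw [← hab, hr]
    clear hab hr hc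
    induction m with
    | zero => simp
    | succ m ih => rw [List.replicate_succ, List.flatten_cons, pow_succ', ← ih]; simp [g, mul_assoc]

theorem exists_hom_23n {A : Type*} [Group A] {a₀ b₀ : A} {a b : G} {m : ℕ} {T W : List (List ℕ)}
    {r : List ℕ} {cs : List (ℕ × ℕ × ℕ × ℕ)} {n : ℕ}
    (hc : TC.chk T W [[0, 0], [1, 1, 1], r] [] 2 n cs = true)
    (hr : r = (List.replicate m [0, 1]).flatten) (hn : Nat.card A = n)
    (h0 : closure ({a₀, b₀} : Set A) = ⊤) (ha₀ : a₀ ^ 2 = 1) (hb₀ : b₀ ^ 3 = 1)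
    (hab₀ : (a₀ * b₀) ^ m = 1) (ha : a ^ 2 = 1) (hb : b ^ 3 = 1) (hab : (a * b) ^ m = 1) :
    ∃ f : A →* G, f a₀ = a ∧ f b₀ = b := by
  have h := card_closure_23n (a := (a₀, a)) (b := (b₀, b)) hc hr (Prod.ext ha₀ ha) (Prod.ext hb₀ hb)
    (Prod.ext hab₀ hab)
  obtain ⟨f, hf⟩ := TC.exists_hom_of_card_le (fun i : Bool => cond i a₀ b₀) (fun i => cond i a b)
    {true, false} (by rw [Set.image_pair]; exact h0) (by rw [Set.image_pair]; exact h.1)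
    (by rw [Set.image_pair, hn]; exact h.2)
  exact ⟨f, hf true (by simp), hf false (by simp)⟩

theorem alt_index_ne_two {α : Type*} [Fintype α] [DecidableEq α]
    (H : Subgroup (alternatingGroup α)) : H.index ≠ 2 := fun h => by
  have h1 : alternatingGroup α ≤ H.map (alternatingGroup α).subtype := by
    conv_lhs => rw [← Perm.closure_three_cycles_eq_alternating]
    rw [closure_le]
    intro σ hσ
    have hσ' : σ.IsThreeCycle := hσ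
    refine ⟨⟨σ, hσ'.mem_alternatingGroup⟩, ?_, rfl⟩
    have := sq_mem_of_index_two h ((⟨σ, hσ'.mem_alternatingGroup⟩ : alternatingGroup α) ^ 2)
    have e : (σ ^ 2) ^ 2 = σ := by
      rw [← pow_mul, show 2 * 2 = 3 + 1 from rfl, pow_succ, ← hσ'.orderOf, pow_orderOf_eq_one,
        one_mul]
    rwa [show ((⟨σ, hσ'.mem_alternatingGroup⟩ : alternatingGroup α) ^ 2) ^ 2 =
      ⟨σ, hσ'.mem_alternatingGroup⟩ from Subtype.ext e] at this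
  have : H = ⊤ := by
    rw [eq_top_iff]
    intro x _
    obtain ⟨y, hy, e⟩ := h1 x.2
    rwa [← Subtype.ext e]
  rw [this, index_top] at h
  omega

theorem card_alt_four' : Nat.card (alternatingGroup (Fin 4)) = 12 := by
  have := two_mul_nat_card_alternatingGroup (α := Fin 4)
  rw [Nat.card_perm, Nat.card_fin] at this
  simp only [Nat.factorial] at this
  omega

theorem card_alt_five' : Nat.card (alternatingGroup (Fin 5)) = 60 := by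
  have := two_mul_nat_card_alternatingGroup (α := Fin 5)
  rw [Nat.card_perm, Nat.card_fin] at this
  simp only [Nat.factorial] at this
  omega

/-- `(0 1)(2 3)`. -/
def a4a : alternatingGroup (Fin 4) :=
  ⟨swap 0 1 * swap 2 3, by rw [Perm.mem_alternatingGroup]; decide⟩

/-- `(0 1 2)`. -/
def a4b : alternatingGroup (Fin 4) :=
  ⟨swap 0 1 * swap 1 2, by rw [Perm.mem_alternatingGroup]; decide⟩

/-- `(0 1)(2 3)`. -/
def a5a : alternatingGroup (Fin 5) :=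
  ⟨swap 0 1 * swap 2 3, by rw [Perm.mem_alternatingGroup]; decide⟩

/-- `(0 2 4)`. -/
def a5b : alternatingGroup (Fin 5) :=
  ⟨swap 0 2 * swap 2 4, by rw [Perm.mem_alternatingGroup]; decide⟩

theorem alt_eq_top_of_card {α : Type*} [Fintype α] [DecidableEq α]
    (H : Subgroup (alternatingGroup α)) {n : ℕ} (h : Nat.card (alternatingGroup α) = 2 * n)
    (hn : n ∣ Nat.card H) : H = ⊤ := by
  obtain ⟨c, hc⟩ := hn
  have h1 := H.index_mul_card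
  have hn0 : 0 < n := by have := Nat.card_pos (α := alternatingGroup α); omega
  rw [hc, h, mul_comm n, ← mul_assoc] at h1
  have h2 := Nat.eq_of_mul_eq_mul_right hn0 h1
  rcases (Nat.dvd_prime Nat.prime_two).1 (Dvd.intro _ h2) with h3 | h3
  · exact index_eq_one.1 h3
  · exact absurd h3 (alt_index_ne_two H)

theorem closure_a4 : closure ({a4a, a4b} : Set (alternatingGroup (Fin 4))) = ⊤ := by
  refine alt_eq_top_of_card _ (n := 6) card_alt_four' ?_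
  have h2 : orderOf a4a = 2 := orderOf_eq_prime (by decide) (by decide)
  have h3 : orderOf a4b = 3 := orderOf_eq_prime (by decide) (by decide)
  exact Nat.Coprime.mul_dvd_of_dvd_of_dvd (show Nat.Coprime 2 3 by norm_num)
    (h2 ▸ orderOf_dvd_natCard _ (subset_closure (by simp)))
    (h3 ▸ orderOf_dvd_natCard _ (subset_closure (by simp)))

theorem closure_a5 : closure ({a5a, a5b} : Set (alternatingGroup (Fin 5))) = ⊤ := by
  refine alt_eq_top_of_card _ (n := 30) card_alt_five' ?_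
  have h2 : orderOf a5a = 2 := orderOf_eq_prime (by decide) (by decide)
  have h3 : orderOf a5b = 3 := orderOf_eq_prime (by decide) (by decide)
  have : Fact (Nat.Prime 5) := ⟨by norm_num⟩
  have h5 : orderOf (a5a * a5b) = 5 := orderOf_eq_prime (by decide) (by decide)
  exact Nat.Coprime.mul_dvd_of_dvd_of_dvd (show Nat.Coprime 6 5 by norm_num)
    (Nat.Coprime.mul_dvd_of_dvd_of_dvd (show Nat.Coprime 2 3 by norm_num)
      (h2 ▸ orderOf_dvd_natCard _ (subset_closure (by simp)))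
      (h3 ▸ orderOf_dvd_natCard _ (subset_closure (by simp))))
    ((dvd_of_eq h5.symm).trans (orderOf_dvd_natCard _
      (mul_mem (subset_closure (by simp)) (subset_closure (by simp)))))

theorem closure_s4 :
    closure ({swap 0 1, swap 1 2 * swap 2 3} : Set (Perm (Fin 4))) = ⊤ := by
  rw [eq_top_iff, ← Perm.closure_cycle_adjacent_swap (isCycle_finRotate (n := 2))
    support_finRotate 0, closure_le]
  rintro _ (rfl | rfl)
  · rw [show finRotate (2 + 2) = swap 0 1 * (swap 1 2 * swap 2 3) by decide]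
    exact mul_mem (subset_closure (by simp)) (subset_closure (by simp))
  · exact subset_closure (Or.inl (by decide))

theorem exists_hom_A4 {a b : G} (ha : a ^ 2 = 1) (hb : b ^ 3 = 1) (hab : (a * b) ^ 3 = 1) :
    ∃ f : alternatingGroup (Fin 4) →* G, f a4a = a ∧ f a4b = b :=
  exists_hom_23n chk233 rfl card_alt_four' closure_a4 (by decide) (by decide) (by decide) ha hb hab

theorem exists_hom_S4 {a b : G} (ha : a ^ 2 = 1) (hb : b ^ 3 = 1) (hab : (a * b) ^ 4 = 1) :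
    ∃ f : Perm (Fin 4) →* G, f (swap 0 1) = a ∧ f (swap 1 2 * swap 2 3) = b :=
  exists_hom_23n chk234 rfl (by rw [Nat.card_perm, Nat.card_fin]; rfl) closure_s4 (by decide)
    (by decide) (by decide) ha hb hab

theorem exists_hom_A5 {a b : G} (ha : a ^ 2 = 1) (hb : b ^ 3 = 1) (hab : (a * b) ^ 5 = 1) :
    ∃ f : alternatingGroup (Fin 5) →* G, f a5a = a ∧ f a5b = b :=
  exists_hom_23n chk235 rfl card_alt_five' closure_a5 (by decide) (by decide) (by decide) ha hb hab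

theorem exists_injective_A5 {a b : G} (ha : a ^ 2 = 1) (hb : b ^ 3 = 1) (hab : (a * b) ^ 5 = 1)
    (h1 : a ≠ 1) : ∃ f : alternatingGroup (Fin 5) →* G, Function.Injective f ∧
      f.range = closure {a, b} := by
  obtain ⟨f, h2, h3⟩ := exists_hom_A5 ha hb hab
  refine ⟨f, (MonoidHom.ker_eq_bot_iff f).1 ((f.normal_ker.eq_bot_or_eq_top).resolve_right fun h => ?_), ?_⟩
  · exact h1 (h2 ▸ (h ▸ mem_top a5a : a5a ∈ f.ker))
  · rw [MonoidHom.range_eq_map, ← closure_a5, MonoidHom.map_closure, Set.image_pair, h2, h3]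

theorem S4_normal_aux : ∀ g : Perm (Fin 4), g ≠ 1 → ∃ h k : Perm (Fin 4),
    swap 0 2 * swap 1 3 = h * g * h⁻¹ ∨ swap 0 2 * swap 1 3 = h * g * h⁻¹ * (k * g * k⁻¹) := by
  decide +kernel

theorem exists_injective_S4 {a b : G} (ha : a ^ 2 = 1) (hb : b ^ 3 = 1) (hab : (a * b) ^ 4 = 1)
    (h1 : (a * b) ^ 2 ≠ 1) : ∃ f : Perm (Fin 4) →* G, Function.Injective f ∧
      f.range = closure {a, b} := by
  obtain ⟨f, h2, h3⟩ := exists_hom_S4 ha hb hab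
  refine ⟨f, (injective_iff_map_eq_one f).2 fun g hg => ?_, ?_⟩
  · by_contra h
    apply h1
    rw [← h2, ← h3, ← map_mul, ← map_pow,
      show (swap 0 1 * (swap 1 2 * swap 2 3) : Perm (Fin 4)) ^ 2 = swap 0 2 * swap 1 3 by decide]
    obtain ⟨u, v, e | e⟩ := S4_normal_aux g h <;> simp [e, hg]
  · rw [MonoidHom.range_eq_map, ← closure_s4, MonoidHom.map_closure, Set.image_pair, h2, h3]

theorem A4_normal_aux : ∀ g : alternatingGroup (Fin 4), g ≠ 1 → ∃ h k : alternatingGroup (Fin 4),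
    a4a = h * g * h⁻¹ ∨ a4a = h * g * h⁻¹ * (k * g⁻¹ * k⁻¹) := by
  decide +kernel

theorem exists_injective_A4 {a b : G} (ha : a ^ 2 = 1) (hb : b ^ 3 = 1) (hab : (a * b) ^ 3 = 1)
    (h1 : a ≠ 1) : ∃ f : alternatingGroup (Fin 4) →* G, Function.Injective f ∧
      f.range = closure {a, b} := by
  obtain ⟨f, h2, h3⟩ := exists_hom_A4 ha hb hab
  refine ⟨f, (injective_iff_map_eq_one f).2 fun g hg => ?_, ?_⟩
  · by_contra h
    apply h1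
    rw [← h2]
    obtain ⟨u, v, e | e⟩ := A4_normal_aux g h <;> simp [e, hg]
  · rw [MonoidHom.range_eq_map, ← closure_a4, MonoidHom.map_closure, Set.image_pair, h2, h3]

end H10
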