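import Cfsg.Agent.H1.BGCop
import Cfsg.Agent.H1.Hol

/-! Base size two for coprime action, reduction to irreducible modules: `marks` (equal numbers of fixed points give equal
numbers of points with a given stabiliser), `nil_pair`, `pair`, `s4372_of`. -/

set_option autoImplicit false

namespace H10.Bs
open Cfsg H18 H1 Subgroup SemidirectProduct
open scoped commutatorElement

universe u v

open Classical in
theorem marks_key {ι Z : Type*} [PartialOrder ι] [Fintype ι] [Finite Z] (k : Z → ι) (b : ι) :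
    Nat.card {x // b ≤ k x} =
      Nat.card {x // k x = b} + ∑ c ∈ Finset.univ.filter (b < ·), Nat.card {x // k x = c} := by
  have := Fintype.ofFinite Z
  simp only [Nat.card_eq_fintype_card, Fintype.card_subtype]
  rw [Finset.card_eq_sum_card_fiberwise (f := k) (t := insert b (Finset.univ.filter (b < ·)))
    (fun x hx => by simpa [eq_comm, le_iff_eq_or_lt] using hx), Finset.sum_insert (by simp)]
  congr 1
  · congr 1; ext x; simp +contextual [eq_comm]
  · refine Finset.sum_congr rfl fun c hc => ?_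
    congr 1; ext x
    simp only [Finset.mem_filter, Finset.mem_univ, true_and] at hc ⊢
    exact ⟨fun e => e.2, fun e => ⟨e ▸ hc.le, e⟩⟩

theorem marks {ι X Y : Type*} [PartialOrder ι] [Finite ι] [Finite X] [Finite Y] (f : X → ι) (g : Y → ι)
    (h : ∀ b, Nat.card {x // b ≤ f x} = Nat.card {y // b ≤ g y}) (b : ι) :
    Nat.card {x // f x = b} = Nat.card {y // g y = b} := by
  classical
  have := Fintype.ofFinite ι
  induction b using WellFoundedGT.induction with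
  | ind b ih =>
    have e := h b
    rw [marks_key f, marks_key g, Finset.sum_congr rfl fun c hc => ih c (Finset.mem_filter.1 hc).2] at e
    exact Nat.add_right_cancel e

/-- base size two on irreducible modules -/
def M2 : Prop := ∀ (G : Type u) [Group G] [Finite G] (V A : Subgroup G), Abel V → MinNorm V A → Solv A →
  (Nat.card A).Coprime (Nat.card V) → ∃ v ∈ V, ∃ w ∈ V, A ⊓ C1(v) ⊓ C1(w) ≤ C(V)

theorem nil_pair (h : M2.{u}) (n : ℕ) : ∀ (G : Type u) [Group G] [Finite G] (K A : Subgroup G), Nat.card K < n →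
    Nil K → Solv A → Cop A K → ∃ v ∈ K, ∃ w ∈ K, A ⊓ C1(v) ⊓ C1(w) ≤ C(K) := by
  induction n with
  | zero => exact fun _ _ _ _ _ h => absurd h (Nat.not_lt_zero _)
  | succ n ih =>
    intro G _ _ K A hn hK hA hc
    by_cases h0 : K = ⊥
    · exact ⟨1, one_mem _, 1, one_mem _, by simp [h0]⟩
    obtain ⟨W, wz, hW⟩ := exists_minNorm (hK.Z_ne_bot h0) (norm_Z hc.norm)
    have wk : W ≤ K := wz.trans inf_le_left
    have kw : K ≤ N(W) := cent_norm (cent_symm (wz.trans inf_le_right))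
    have cw := hc.sub wk hW.norm
    obtain ⟨n1, h1, n2, h2, h3⟩ := h G W A (abel_Z.mono wz) hW hA cw.cop
    obtain ⟨v', a1, w', a2, a3⟩ := ih _ (K ⫽ W) (A ⫽ W)
      (lt_of_lt_of_le (card_quo_lt ⟨wk, kw⟩ hW.ne_bot) (Nat.lt_succ_iff.1 hn)) hK.mim hA.mim hc.mim
    have lift : ∀ v' ∈ K ⫽ W, ∀ m ∈ W, ∃ v ∈ K, ∀ a ∈ A, a ∈ C1(v * m) → a ∈ C1(m) ∧ cs W a ∈ C1(v') := by
      intro v' hv m hm
      have b1 : A ⊓ qpre W (C1(v')) ≤ A := inf_le_left
      have : v' ∈ (K ⊓ C(A ⊓ qpre W (C1(v')))) ⫽ W := by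
        rw [(hc.left b1).mim_cent (b1.trans hW.norm) kw]
        exact ⟨hv, le_C1_iff.1 ((mim_le_iff (b1.trans hW.norm)).2 inf_le_right)⟩
      obtain ⟨v, hv', e⟩ := (mem_quo (inf_le_left.trans kw)).1 this
      refine ⟨v, hv'.1, fun a ha c => ?_⟩
      have an := hW.norm ha
      have vn := kw hv'.1
      have mn : m ∈ N(W) := H18.le_N hm
      have d : cs W a ∈ C1(v') := by
        have := congrArg (cs W ·) (mem_C1.1 c)
        simp only [mfun_mul an (mul_mem vn mn), mfun_mul (mul_mem vn mn) an, mfun_mul vn mn, cs_eq_one hm, mul_one,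
          e] at this
        exact mem_C1.2 this
      refine ⟨?_, d⟩
      have d' : a * v = v * a := mem_C.1 hv'.2 a ⟨ha, mem_mpre.2 ⟨an, d⟩⟩
      have c' := mem_C1.1 c
      rw [← mul_assoc, d', mul_assoc, mul_assoc, mul_right_inj] at c'
      exact mem_C1.2 c'
    obtain ⟨v, hv, k1⟩ := lift v' a1 n1 h1
    obtain ⟨w, hw, k2⟩ := lift w' a2 n2 h2
    refine ⟨v * n1, mul_mem hv (wk h1), w * n2, mul_mem hw (wk h2), fun a ha => ?_⟩
    obtain ⟨b1, b2⟩ := k1 a ha.1.1 ha.1.2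
    obtain ⟨b3, b4⟩ := k2 a ha.1.1 ha.2
    have an := hW.norm ha.1.1
    have c1 : zpowers a ≤ C(W) := zpowers_le.2 (h3 ⟨⟨ha.1.1, b1⟩, b3⟩)
    have c2 : ⁅K, zpowers a⁆ ≤ W := (comm_le_iff_quo kw (zpowers_le.2 an)).2 (cent_symm (by
      rw [mim_zpowers an]; exact zpowers_le.2 (a3 ⟨⟨mfun_mem_mim ha.1.1, b2⟩, b4⟩)))
    exact cent_symm (cent_of_comm_le c2 (cent_symm c1) (cw.left (zpowers_le.2 ha.1.1)).cop) (mem_zpowers a)

variable {G : Type u} [Group G] [Finite G] {K A H : Subgroup G}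

theorem card_eq_prod {s : Finset ℕ} (hs : (Nat.card H).primeFactors ⊆ s) (hp : ∀ p ∈ s, p.Prime)
    {R : s → Subgroup G} (hR : ∀ p : s, Hall {p.1} (R p) H) : Nat.card H = ∏ p : s, Nat.card (R p) := by
  have e : ∀ p : s, Nat.card (R p) = p.1 ^ (Nat.card H).factorization p := fun p => by
    have pp := hp p p.2
    obtain ⟨k, hk⟩ := (hR p).pi.card_eq_pow
    refine Nat.dvd_antisymm ?_ ((hR p).dvd_of_piNat (piNat_pow_self pp _) (Nat.ordProj_dvd _ _))
    rw [hk]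
    exact pow_dvd_pow _ ((pp.pow_dvd_iff_le_factorization card_ne_zero').1 (hk ▸ card_dvd (hR p).le))
  simp only [e]
  rw [Finset.prod_coe_sort s fun p => p ^ (Nat.card H).factorization p]
  conv_lhs => rw [← Nat.prod_factorization_pow_eq_self (n := Nat.card H) card_ne_zero']
  exact Finsupp.prod_of_support_subset _ hs _ fun _ _ => pow_zero _

theorem pair (h : M2.{u}) (hA : Solv A) (hc : Cop A K) : ∃ v ∈ K, ∃ w ∈ K, A ⊓ C1(v) ⊓ C1(w) ≤ C(K) := by
  classical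
  set s := (Nat.card K).primeFactors
  have hp : ∀ p ∈ s, p.Prime := fun p hp => Nat.prime_of_mem_primeFactors hp
  choose P hP nP using fun p : s => hc.exists_sylow (hp p p.2)
  choose x hx y hy e using fun p : s =>
    nil_pair h _ G (P p) A (Nat.lt_succ_self _) (hP p).pi.nil hA (hc.sub (hP p).le (nP p))
  have m := marks (fun k : K => A ⊓ C1((k : G))) (fun z : ∀ p : s, P p => A ⊓ ⨅ p, C1((z p : G))) fun B => by
    by_cases hB : B ≤ A
    · have cB := hc.left hB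
      have e1 : Nat.card {k : K // B ≤ A ⊓ C1((k : G))} = Nat.card ↥(K ⊓ C(B)) := Nat.card_congr
        ⟨fun k => ⟨k.1, k.1.2, le_C1_iff.1 (k.2.trans inf_le_right)⟩,
          fun k => ⟨⟨k.1, k.2.1⟩, le_inf hB (le_C1_iff.2 k.2.2)⟩, fun _ => rfl, fun _ => rfl⟩
      have e2 : Nat.card {z : ∀ p : s, P p // B ≤ A ⊓ ⨅ p, C1((z p : G))} = Nat.card (∀ p : s, ↥(P p ⊓ C(B))) :=
        Nat.card_congr ⟨fun z p => ⟨z.1 p, (z.1 p).2, le_C1_iff.1 (z.2.trans (inf_le_right.trans (iInf_le _ p)))⟩,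
          fun z => ⟨fun p => ⟨z p, (z p).2.1⟩, le_inf hB (le_iInf fun p => le_C1_iff.2 (z p).2.2)⟩,
          fun _ => rfl, fun _ => rfl⟩
      rw [e1, e2, Nat.card_pi]
      exact card_eq_prod (Nat.primeFactors_mono (card_dvd inf_le_left) card_ne_zero') hp
        fun p => cB.sylow_inf_cent (hp p p.2) (hP p) (hB.trans (nP p))
    · have : IsEmpty {k : K // B ≤ A ⊓ C1((k : G))} := ⟨fun k => hB (k.2.trans inf_le_left)⟩
      have : IsEmpty {z : ∀ p : s, P p // B ≤ A ⊓ ⨅ p, C1((z p : G))} := ⟨fun k => hB (k.2.trans inf_le_left)⟩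
      rw [Nat.card_of_isEmpty, Nat.card_of_isEmpty]
  have ex : ∀ z : ∀ p : s, P p, ∃ k ∈ K, A ⊓ C1(k) = A ⊓ ⨅ p, C1((z p : G)) := fun z => by
    have := m (A ⊓ ⨅ p, C1((z p : G)))
    obtain ⟨⟨k, hk⟩⟩ := (Nat.card_ne_zero.1 (this.trans_ne (Nat.card_ne_zero.2 ⟨⟨⟨z, rfl⟩⟩, inferInstance⟩))).1
    exact ⟨k, k.2, hk⟩
  obtain ⟨v, hv, e1⟩ := ex fun p => ⟨x p, hx p⟩
  obtain ⟨w, hw, e2⟩ := ex fun p => ⟨y p, hy p⟩
  refine ⟨v, hv, w, hw, cent_symm (le_of_sylows fun p pp d => ?_)⟩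
  let q : s := ⟨p, Nat.mem_primeFactors.2 ⟨pp, d, card_ne_zero'⟩⟩
  refine ⟨P q, hP q, cent_symm (le_trans (fun a ha => ?_) (e q))⟩
  exact ⟨⟨ha.1.1, mem_iInf.1 (e1.le ha.1).2 q⟩, mem_iInf.1 (e2.le ⟨ha.1.1, ha.2⟩).2 q⟩

theorem s4372_of (h : M2.{max u v}) {A : Type u} {K : Type v} [Group A] [Finite A] [Group K] [Finite K]
    [MulDistribMulAction A K] [FaithfulSMul A K] (hA : Group.IsSolvable A)
    (hcop : (Nat.card A).Coprime (Nat.card K)) : ∃ x y : K, ∀ a : A, a • x = x → a • y = y → a = 1 := by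
  let φ := MulDistribMulAction.toMulAut A K
  have sA : Solv (hr φ ⊤) := solv_hr.2 solv_of_solv
  obtain ⟨v, hv, w, hw, e⟩ := pair (K := hl φ ⊤) h sA ⟨hr_norm_top, by simpa using hcop, Or.inl sA⟩
  obtain ⟨x, -, rfl⟩ := mem_hl.1 hv
  obtain ⟨y, -, rfl⟩ := mem_hl.1 hw
  refine ⟨x, y, fun a h1 h2 => eq_of_smul_eq_smul (α := K) fun z => ?_⟩
  have := e ⟨⟨inr_mem_hr.2 (mem_top a), mem_C1_comm.1 (inl_mem_C1.2 h1)⟩, mem_C1_comm.1 (inl_mem_C1.2 h2)⟩
  rw [one_smul]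
  exact inl_mem_C1.1 (mem_C1_comm.1 (C_le_C1 (inl_mem_hl.2 (mem_top z)) this))

end H10.Bs
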