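import Cfsg.Agent.H8.Bs1

/-! `H10.BsX2.x2 : H8.Bs.X2`: a regular pair in the semiregular case. -/

set_option autoImplicit false

namespace H10.BsX2
open Subgroup Cfsg H18 H21 H21.Rb H8.Bs
open scoped commutatorElement

universe u

theorem x2 : X2.{u} := fun G _ _ V A Z E c h1 sE => by
  classical
  have fp : ∀ u ∈ E, ∀ x ∈ V, x ≠ 1 → u * x * u⁻¹ = x → u = 1 := fun u hu x hx x1 e => by
    by_contra k
    exact x1 (eq_one_of_eq_bot (sE u hu k) (mem_inf.2 ⟨hx, C1_iff.2 e⟩))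
  obtain ⟨M, ZM, hM⟩ := exists_max_abel c.cyc.abel c.ZE
  have ME : M ≤ E := hM.ge.trans inf_le_left
  have aM : Abel M := hM.ge.trans inf_le_right
  obtain ⟨X, XU, hX⟩ := exists_minNorm h1 (ME.trans c.EV)
  obtain ⟨g, hg, e⟩ := hX.exists_gen (c.abV.mono XU) (by rw [aM.der]; exact bot_le)
  obtain ⟨x, hx, x1⟩ := exists_mem_ne_one' hX.ne_bot
  have e1 : M ≤ zpowers g := by
    have n2 : Nrm2 (zpowers g) C(X) := Or.inl ((zpowers_le.2 hg).trans (norm_C hX.norm))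
    refine (le_inf le_rfl e).trans ?_
    rw [n2.modular_left (zpowers_le.2 hg)]
    refine sup_le le_rfl fun u hu => ?_
    rw [fp u (ME hu.1) x (XU hx) x1 (conj_of_C hu.2 hx)]
    exact one_mem _
  have gE : g ∈ E := ME hg
  have cg : ∀ n ∈ E, ⁅g, n⁆ = 1 → n ∈ zpowers g := fun n hn k => e1 (by
    rw [← hM]
    refine mem_inf.2 ⟨hn, C_anti e1 ?_⟩
    rw [C_zpowers]
    exact mem_C1.2 (commutatorElement_eq_one_iff_mul_comm.1 k).symm)
  let φ : E →* Z := MonoidHom.mk' (fun n => ⟨⁅g, (n : G)⁆, c.cm gE n.2⟩) fun a b =>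
    Subtype.ext (comm_mul_right (mem_C.1 (c.EC a.2) _ (c.cm gE b.2)).symm)
  haveI := c.cyc
  obtain ⟨⟨_, h, rfl⟩, hh⟩ := IsCyclic.exists_generator (α := φ.range)
  have gen : ∀ n ∈ E, ∃ i : ℤ, ((h : G) ^ i)⁻¹ * n ∈ zpowers g := fun n hn => by
    obtain ⟨i, hi⟩ := hh ⟨φ ⟨n, hn⟩, _, rfl⟩
    have e2 : φ ((h ^ i)⁻¹ * ⟨n, hn⟩) = 1 := by
      rw [map_mul, map_inv, map_zpow, inv_mul_eq_one]; exact congrArg Subtype.val hi
    exact ⟨i, cg _ (mul_mem (inv_mem (zpow_mem h.2 _)) hn) (congrArg Subtype.val e2)⟩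
  obtain ⟨h, hE⟩ := h
  simp only at gen
  refine ⟨x, g * x * g⁻¹, XU hx, conj_mem c.EV gE (XU hx), fun t₀ ht₀ f1 f2 => ?_⟩
  have tg₀ : Commute t₀ g := by
    have := fp _ (mul_mem (inv_mem gE) (conj_mem c.nE.norm ht₀ gE)) x (XU hx) x1 (by
      conv_lhs => rw [← f1]
      calc _ = g⁻¹ * (t₀ * (g * x * g⁻¹) * t₀⁻¹) * g := by group
        _ = _ := by rw [f2]; group)
    rw [inv_mul_eq_one, eq_mul_inv_iff_mul_eq] at this
    exact this.symm
  by_contra k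
  have t1 : t₀ ≠ 1 := fun e => k (e ▸ one_mem _)
  obtain ⟨s, hs, ds⟩ := Nat.exists_prime_and_dvd (orderOf_eq_one_iff.not.2 t1)
  set t := t₀ ^ (orderOf t₀ / s) with ht
  have ot : orderOf t = s := orderOf_pow_orderOf_div (orderOf_pos t₀).ne' ds
  have tA : t ∈ A := pow_mem ht₀ _
  have tg : Commute t g := tg₀.pow_left _
  have tx : t * x * t⁻¹ = x := C1_iff.1 (mem_C1_comm.1 (pow_mem (mem_C1_comm.1 (C1_iff.2 f1)) _))
  clear_value t
  have tz : ∀ z ∈ zpowers g, Commute t z := by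
    rintro _ ⟨i, rfl⟩; exact tg.zpow_right i
  have Zg : Z ≤ zpowers g := ZM.trans e1
  have thE : t * h * t⁻¹ ∈ E := conj_mem c.nE.norm tA hE
  obtain ⟨d, hd⟩ : ∃ d, t * h * t⁻¹ = h * d := ⟨h⁻¹ * (t * h * t⁻¹), by group⟩
  have dE : d ∈ E := by
    have := mul_mem (inv_mem hE) thE
    rwa [hd, inv_mul_cancel_left] at this
  have dg : d ∈ zpowers g := cg d dE (by
    have a1 : ⁅g, h * d⁆ = ⁅g, h⁆ := by
      rw [← hd]
      calc _ = t * ⁅t⁻¹ * g * t, h⁆ * t⁻¹ := by simp only [commutatorElement_def]; group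
        _ = _ := by
          rw [mul_assoc t⁻¹, ← tg.eq, inv_mul_cancel_left, (tz _ (Zg (c.cm gE hE))).eq, mul_inv_cancel_right]
    rw [comm_mul_right (mem_C.1 (c.EC hE) _ (c.cm gE dE)).symm] at a1
    simpa using a1)
  have ds1 : d ^ s = 1 := by
    have : ∀ j : ℕ, t ^ j * h * (t ^ j)⁻¹ = h * d ^ j := fun j => by
      induction j with
      | zero => simp
      | succ j ih =>
        calc _ = t * (t ^ j * h * (t ^ j)⁻¹) * t⁻¹ := by group
          _ = t * h * t⁻¹ * (t * d ^ j * t⁻¹) := by rw [ih]; group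
          _ = _ := by rw [hd, ((tz d dg).pow_right j).eq]; group
    have := this s
    rw [← ot, pow_orderOf_eq_one] at this
    rw [← ot]
    simpa using this.symm
  have dh : Commute d h := by
    by_cases q : s ∣ Nat.card Z
    · obtain ⟨m, hm⟩ := q
      exact mem_C.1 (c.EC hE) d (cyc_zpowers.mem_of_pow Zg dg (by rw [hm, pow_mul, ds1, one_pow]))
    · have a1 : ⁅d, h⁆ ^ s = 1 := by rw [← comm_pow_left (c.cmm dE hE dE), ds1, commutatorElement_one_left]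
      have a2 : orderOf ⁅d, h⁆ ∣ Nat.card Z := Z.orderOf_dvd_natCard (c.cm dE hE)
      rcases (Nat.dvd_prime hs).1 (orderOf_dvd_of_pow_eq_one a1) with a3 | a3
      · exact commutatorElement_eq_one_iff_commute.1 (orderOf_eq_one_iff.1 a3)
      · exact absurd (a3 ▸ a2) q
  have dk : d ^ orderOf ⁅g, h⁆ = 1 := by
    have a1 : h ^ orderOf ⁅g, h⁆ ∈ zpowers g := cg _ (pow_mem hE _) (by
      rw [comm_pow_right (c.cmm gE hE hE), pow_orderOf_eq_one])
    have a2 : (t * h * t⁻¹) ^ orderOf ⁅g, h⁆ = h ^ orderOf ⁅g, h⁆ := by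
      rw [conj_pow, (tz _ a1).eq, mul_inv_cancel_right]
    rw [hd, dh.symm.mul_pow] at a2
    simpa using a2
  obtain ⟨i, hi⟩ := cyc_zpowers.mem_of_pow (zpowers_le.2 (Zg (c.cm gE hE))) dg (by rw [card_zpowers', dk])
  simp only at hi
  have yh : Commute ((g ^ i)⁻¹ * t) h := by
    rw [← comm_zpow_left (c.cmm gE hE gE), commutatorElement_def] at hi
    have a1 : t * h * t⁻¹ = g ^ i * h * (g ^ i)⁻¹ := by rw [hd, ← dh.eq, ← hi]; group
    show _ = _
    calc _ = (g ^ i)⁻¹ * (t * h * t⁻¹) * t := by group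
      _ = _ := by rw [a1]; group
  have yg : Commute ((g ^ i)⁻¹ * t) g := ((Commute.refl g).zpow_left i).inv_left.mul_left tg
  have yZ : (g ^ i)⁻¹ * t ∈ Z := c.CE <| mem_inf.2 ⟨mul_mem (inv_mem (zpow_mem (c.nE.le gE) _)) tA, mem_C.2 fun n hn => by
    obtain ⟨j, m, hm⟩ := gen n hn
    simp only at hm
    rw [show n = h ^ j * g ^ m by rw [hm]; group]
    exact ((yh.zpow_right j).mul_right (yg.zpow_right m)).symm⟩
  have tE : t ∈ E := by
    have := mul_mem (zpow_mem gE i) (c.ZE yZ)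
    rwa [mul_inv_cancel_left] at this
  rw [fp t tE x (XU hx) x1 tx, orderOf_one] at ot
  exact hs.ne_one ot.symm

end H10.BsX2
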