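import Cfsg.Agent.H10.DG5
import Cfsg.Agent.S0497
import Cfsg.Agent.S1011
import Cfsg.Agent.S0498
import Cfsg.Agent.S1020
import Cfsg.Agent.S0984
import Cfsg.Agent.S1021
import Cfsg.Agent.S0981
/-! `H10.simple_of_graph`: a group with the order and degree graph of a simple group of order below
6000 is simple; `equiv_of_card_ne`: simple groups of these orders are determined by the order. -/

namespace H10
open H5 Cfsg Subgroup
open scoped MatrixGroups

universe u v
variable {G : Type u} [Group G] [Finite G] {S : Type v} [Group S] [Finite S] [IsSimpleGroup S]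

theorem three_mem_5616 (h : Nat.card S = 5616) : 3 ∈ degreePrimes S := by
  classical
  have := Fintype.ofFinite S
  have := Fact.mk (by norm_num : Nat.Prime 13)
  obtain ⟨P, e, t, D, l, hl, -, hQ⟩ := exists_of_chk (p := 13) (B := 80)
    (not_comm_of_simple_of_not_prime (G := S) (by rw [h]; norm_num))
    (Q := fun _ _ l => l.any fun x => x % 3 == 0) (by rw [h]; decide +kernel)
  obtain ⟨x, h1, h2⟩ := List.any_eq_true.1 hQ
  rw [← Multiset.mem_coe, hl, Multiset.mem_map] at h1
  obtain ⟨χ, h1, rfl⟩ := h1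
  refine ⟨Nat.prime_three, _, ⟨χ, rfl⟩, ?_⟩
  rw [beq_iff_eq] at h2
  rcases D.δ_sign χ (Finset.mem_of_mem_erase h1) with e | e <;> rw [e] at h2 <;> omega

theorem card_GF (p n q : ℕ) [Fact p.Prime] [Fintype (GaloisField p n)] (hn : n ≠ 0) (h : p ^ n = q) :
    Fintype.card (GaloisField p n) = q := by
  rw [← Nat.card_eq_fintype_card, GaloisField.card p n hn, h]

theorem simple_of_graph (hS : ¬ IsMulCommutative S) (hlt : Nat.card S < 6000)
    (hc : Nat.card G = Nat.card S) (h1 : degreePrimes G = degreePrimes S)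
    (h2 : degreeGraph G = degreeGraph S) : IsSimpleGroup G := by
  by_contra hs
  have easy : ∀ p n : ℕ, Nat.card S = n → p ∈ degreePrimes S → p.Prime → (¬ p ^ 2 ∣ n ∧ Good p n ∧
      n ≠ 0 ∧ n < 6000 ∧ ∀ m ∈ LS, m ∣ n → m < n → ¬ p ∣ m) → False := fun p n e h3 hp h4 => by
    have := Fact.mk hp
    exact not_ns_of_mem (by rw [hc, e]; exact h4.1) (h1 ▸ h3)
      (ns_of_list h4 (hc.trans e).dvd (.inr hs))
  have solv : ∀ p q Q n : ℕ, Nat.card S = n → p ∈ degreePrimes S → q ∈ degreePrimes S →
      Group.IsSolvable G → (¬ p ^ 2 ∣ n ∧ q ∣ Q ∧ ¬ Q * q ∣ n ∧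
        ∀ d ∈ n.divisors, IsPrimePow d → p ∣ d - 1 → d = Q) → False := fun p q Q n e h3 h4 _ h5 => by
    have := Fact.mk h3.1
    rw [← e, ← hc] at h5
    exact not_mem_degreePrimes_of_solv h5.1 (not_ns_of_mem h5.1 (h1 ▸ h3)) h4.1 h5.2.1 h5.2.2.1
      h5.2.2.2 (h1 ▸ h4)
  have h := card_lt_6000 hS hlt
  simp only [List.mem_cons, List.not_mem_nil, or_false] at h
  rcases h with e | e | e | e | e | e | e | e | e | e | e
  · exact easy 5 _ e (mem_degreePrimes_of_mem hS e (by simp)) (by norm_num) (by decide +kernel)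
  · refine solv 7 2 8 _ e (mem_degreePrimes_of_mem hS e (by simp)) ?_
      (solv_of_not_simple (hc.trans e) hs (by decide +kernel)) (by decide +kernel)
    rw [H24.degreePrimes_eq (F := ZMod 7) (by simp) (by simp)
      (.inl (Cfsg.Agent.S0495.result e (ZMod.card 7)))]
    exact ⟨Nat.prime_two, by simp⟩
  · have h3 := mem_degreePrimes_of_mem (p := 5) hS e (by simp)
    have := Fintype.ofFinite (GaloisField 3 2)
    have c := card_GF 3 2 9 (by norm_num) rfl
    have := Matrix.ProjectiveSpecialLinearGroup.rank_two_simple (F := GaloisField 3 2)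
      (by rw [Nat.card_eq_fintype_card, c]; norm_num)
    obtain ⟨f⟩ := Cfsg.Agent.S0497.result e
    obtain ⟨g⟩ := Cfsg.Agent.S0497.result (card_PSL2_of 360 c rfl)
    have k := H24.degreeGraph_adj (by rw [c]; norm_num) (by rw [c]; norm_num) (.inl ⟨f.trans g.symm⟩)
    rw [← h2, c] at k
    have k1 := (k 2 5).2 (by norm_num)
    have k2 := divDeg_360 (hc.trans e) hs (fun h => solv 5 5 25 _ e h3 h3 h (by decide +kernel))
      k1.2.2.2
    have := (k 2 3).1 ⟨by norm_num, by norm_num, by norm_num, k2⟩
    norm_num at this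
  · have := Fintype.ofFinite (GaloisField 2 3)
    have c := card_GF 2 3 8 (by norm_num) rfl
    have f := Cfsg.Agent.S1011.result e c
    have k := H24.degreeGraph_adj (by rw [c]; norm_num) (by rw [c]; norm_num) (.inl f)
    rw [← h2, c] at k
    have k2 := divDeg_504 (hc.trans e) hs fun h => solv 7 2 8 _ e
      (mem_degreePrimes_of_mem hS e (by simp)) (by
        rw [H24.degreePrimes_eq (by rw [c]; norm_num) (by rw [c]; norm_num) (.inl f), c]
        exact ⟨Nat.prime_two, by norm_num⟩) h (by decide +kernel)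
    have := (k 2 3).1 ⟨by norm_num, by norm_num, by norm_num, k2⟩
    norm_num at this
  · exact easy 11 _ e (mem_degreePrimes_of_mem hS e (by simp)) (by norm_num) (by decide +kernel)
  · exact easy 13 _ e (mem_degreePrimes_of_mem hS e (by simp)) (by norm_num) (by decide +kernel)
  · exact easy 17 _ e (mem_degreePrimes_of_mem hS e (by simp)) (by norm_num) (by decide +kernel)
  · rw [← hc] at e
    rcases ns_2520 G e.dvd (.inr hs) with h | h
    · exact not_ns_of_mem (by rw [e]; norm_num)
        (h1 ▸ mem_degreePrimes_of_mem hS (hc ▸ e) (by simp)) h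
    · exact not_ns_of_mem (by rw [e]; norm_num)
        (h1 ▸ mem_degreePrimes_of_mem hS (hc ▸ e) (by simp)) h
  · exact easy 19 _ e (mem_degreePrimes_of_mem hS e (by simp)) (by norm_num) (by decide +kernel)
  · exact easy 17 _ e (mem_degreePrimes_of_mem hS e (by simp)) (by norm_num) (by decide +kernel)
  · exact solv 13 3 27 _ e (mem_degreePrimes_of_mem hS e (by simp)) (three_mem_5616 e)
      (solv_of_not_simple (hc.trans e) hs (by decide +kernel)) (by decide +kernel)

theorem equiv_of_card_ne [IsSimpleGroup G] (hS : ¬ IsMulCommutative S) (hlt : Nat.card S < 6000)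
    (hc : Nat.card G = Nat.card S) (hne : Nat.card S ≠ 5616) : Nonempty (G ≃* S) := by
  have key : ∀ {X : Type} [Group X], Nonempty (G ≃* X) → Nonempty (S ≃* X) → Nonempty (G ≃* S) :=
    fun ⟨f⟩ ⟨g⟩ => ⟨f.trans g.symm⟩
  have h := card_lt_6000 hS hlt
  simp only [List.mem_cons, List.not_mem_nil, or_false] at h
  have := Fact.mk (by norm_num : Nat.Prime 11)
  have := Fact.mk (by norm_num : Nat.Prime 13)
  have := Fact.mk (by norm_num : Nat.Prime 17)
  have := Fact.mk (by norm_num : Nat.Prime 19)
  have := Fintype.ofFinite (GaloisField 2 3)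
  have := Fintype.ofFinite (GaloisField 2 4)
  rcases h with e | e | e | e | e | e | e | e | e | e | e <;> have e' := hc.trans e
  · exact key (equiv_A5_of_simple e') (equiv_A5_of_simple e)
  · exact key (Cfsg.Agent.S0495.result e' (ZMod.card 7)) (Cfsg.Agent.S0495.result e (ZMod.card 7))
  · exact key (Cfsg.Agent.S0497.result e') (Cfsg.Agent.S0497.result e)
  · have c := card_GF 2 3 8 (by norm_num) rfl
    exact key (Cfsg.Agent.S1011.result e' c) (Cfsg.Agent.S1011.result e c)
  · exact key (Cfsg.Agent.S0498.result 11 (.inl rfl) (by rw [e']; norm_num) (ZMod.card 11))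
      (Cfsg.Agent.S0498.result 11 (.inl rfl) (by rw [e]; norm_num) (ZMod.card 11))
  · exact key (Cfsg.Agent.S0498.result 13 (.inr rfl) (by rw [e']; norm_num) (ZMod.card 13))
      (Cfsg.Agent.S0498.result 13 (.inr rfl) (by rw [e]; norm_num) (ZMod.card 13))
  · exact key (Cfsg.Agent.S1020.result e' (ZMod.card 17)) (Cfsg.Agent.S1020.result e (ZMod.card 17))
  · exact key (Cfsg.Agent.S0984.result e') (Cfsg.Agent.S0984.result e)
  · exact key (Cfsg.Agent.S1021.result e' (ZMod.card 19)) (Cfsg.Agent.S1021.result e (ZMod.card 19))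
  · have c := card_GF 2 4 16 (by norm_num) rfl
    exact key (Cfsg.Agent.S0981.result e' c) (Cfsg.Agent.S0981.result e c)
  · exact (hne e).elim

theorem isMinimalSimple_5616 (h : Nat.card S = 5616) : IsMinimalSimple S :=
  ⟨‹_›, not_comm_of_simple_of_not_prime (by rw [h]; norm_num), fun H hH => by
    by_contra h1
    have e := H.card_mul_index
    have := one_lt_index_of_ne_top hH
    have := Nat.card_pos (α := H)
    exact this.ne' (zero_dvd_iff.1 (dvd_of_not_solv h1 ((card_subgroup_dvd_card H).trans h.dvd)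
      (by nlinarith) (by decide +kernel)))⟩

end H10
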