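import Cfsg.Agent.H10.E3
/-! Sylow `p`-normaliser of order `2p`: simplicity (`simple_of_two_p`), multiplicities of the
principal block in a class function vanishing on `P#` (`PB.inner_rel`). -/

namespace H10
open H5 Cfsg Subgroup MulAction
open scoped ComplexConjugate

variable {G : Type*} [Group G] {p : ℕ} [hp : Fact p.Prime]

theorem simple_of_two_p [Finite G] (hp2 : p ≠ 2) (hO : pPrimeCore p G = ⊥) (P : Sylow p G)
    (hd : p ∣ Nat.card G) (hn : ¬ (P : Subgroup G).Normal)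
    (hN : Nat.card 𝐍[(P : Subgroup G)] = 2 * p) : SC P ∧
      𝐂[(P : Subgroup G)].relIndex 𝐍[(P : Subgroup G)] = 2 ∧ commutator G = ⊤ ∧ IsSimpleGroup G := by
  have hpp := hp.out
  have hP : Nat.card (P : Subgroup G) = p := by
    have h1 := card_dvd_of_le (le_normalizer (H := (P : Subgroup G)))
    have h2 := P.dvd_card_of_dvd_card hd
    obtain ⟨k, hk⟩ := P.isPGroup'.exists_card_eq
    rw [hk] at h2 h1 ⊢
    rw [hN] at h1
    refine Nat.dvd_antisymm (Nat.Coprime.dvd_of_dvd_mul_left (Nat.Coprime.pow_left _ ?_) h1) h2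
    exact (Nat.coprime_primes hpp Nat.prime_two).2 hp2
  have h1 := card_mul_relIndex (centralizer_le_normalizer ((P : Subgroup G) : Set G))
  obtain ⟨c, hc⟩ := card_dvd_of_le (comm_of_card_prime hP)
  have he : 𝐂[(P : Subgroup G)].relIndex 𝐍[(P : Subgroup G)] = 2 ∧ c = 1 := by
    have h2 : 𝐂[(P : Subgroup G)].relIndex 𝐍[(P : Subgroup G)] ≠ 1 := fun h =>
      hn (normal_of_inf_le hO P le_top (inf_le_left.trans (relIndex_eq_one.1 h)))
    rw [hN, hc, hP, mul_assoc, mul_comm 2, Nat.mul_right_inj hpp.ne_zero] at h1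
    rcases (Nat.dvd_prime Nat.prime_two).1 (Dvd.intro_left _ h1) with h | h
    · exact absurd h h2
    · exact ⟨h, by rw [h] at h1; omega⟩
  have S : SC P := ⟨hP, (eq_of_le_of_card_ge (comm_of_card_prime hP) (by rw [hc, he.2, mul_one])).symm⟩
  have hG := perfect_of_prime_relIndex hO hP hn (he.1 ▸ Nat.prime_two) S.hC
  have : Nontrivial G := Finite.one_lt_card_iff_nontrivial.1 (hpp.one_lt.trans_le
    (Nat.le_of_dvd Nat.card_pos hd))
  refine ⟨S, he.1, hG, ⟨fun K hK => or_iff_not_imp_left.2 fun h => ?_⟩⟩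
  have h4 := le_of_normal_ne_bot hO hP h
  have h5 := Sylow.normalizer_sup_eq_top' P h4
  have h6 : K.index ∣ 2 := by
    have h7 := card_mul_relIndex (le_inf le_normalizer h4 :
      (P : Subgroup G) ≤ 𝐍[(P : Subgroup G)] ⊓ K)
    have h8 := card_mul_relIndex (inf_le_left : 𝐍[(P : Subgroup G)] ⊓ K ≤ _)
    rw [hN, ← h7, hP, inf_comm, inf_relIndex_right, mul_assoc, mul_comm 2,
      Nat.mul_right_inj hpp.ne_zero, ← relIndex_sup_right 𝐍[(P : Subgroup G)]] at h8
    rw [← relIndex_top_right, ← h5]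
    exact Dvd.intro_left _ h8
  exact index_eq_one.1 (((Nat.dvd_prime Nat.prime_two).1 h6).resolve_right
    (index_ne_two_of_perfect hG _))

theorem charKer_eq_bot_of_simple [Finite G] [IsSimpleGroup G] {ζ : IrrCharacter G}
    (h : ζ ≠ irrOne G) : charKer (ζ : G → ℂ) = ⊥ :=
  (ζ.2.isCharacter.normal_charKer.eq_bot_or_eq_top).resolve_right fun e =>
    h (Subtype.ext (ζ.2.charKer_eq_top_iff.1 e))

theorem PB.inner_rel [Fintype G] {P : Sylow p G} {e t : ℕ} (D : PB P e t) (S : SC P) {Φ : G → ℂ}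
    (hΦ : IsClassFunction G Φ) (h : ∀ x ∈ (P : Subgroup G), x ≠ 1 → Φ x = 0) {θ : IrrCharacter G}
    (hθ : θ ∈ D.Y) : D.ε * classInner Φ θ = ∑ χ ∈ D.X, D.δ χ * classInner Φ χ := by
  simp only [classInner, Finset.mul_sum]
  rw [Finset.sum_comm]
  refine Finset.sum_congr rfl fun g _ => ?_
  by_cases hg : p ∣ orderOf g
  · obtain ⟨x, hx, hx1, c⟩ := exists_isConj_mem S.hP (S.ord_eq hg)
    simp [← hΦ.eq_of_isConj c, h x hx hx1]
  have := congrArg conj (D.rel θ hθ g hg)
  simp only [map_mul, map_intCast, map_sum] at this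
  rw [Finset.sum_congr rfl fun χ _ => show _ = (Nat.card G : ℂ)⁻¹ * Φ g * (D.δ χ * conj (χ.1 g)) by ring,
    ← Finset.mul_sum, ← this]
  ring

theorem PB.mem_or_dvd [Fintype G] {P : Sylow p G} {e t : ℕ} (D : PB P e t) (S : SC P)
    (ζ : IrrCharacter G) : ζ ∈ D.X ∨ ζ ∈ D.Y ∨ p ∣ charDegree (ζ : G → ℂ) := by
  classical
  refine or_iff_not_imp_left.2 fun h1 => or_iff_not_imp_left.2 fun h2 => ?_
  have := D.avg_out S.hC h1 h2
  obtain ⟨m, hm⟩ := exists_avg_one (P : Subgroup G) ζ.2.isCharacter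
  rw [hm] at this
  exact ⟨m, by exact_mod_cast this.symm⟩

theorem card_of_deg_sub_one [Fintype G] [IsSimpleGroup G] (h3 : 3 < p) {P : Sylow p G} (S : SC P)
    (he : 𝐂[(P : Subgroup G)].relIndex 𝐍[(P : Subgroup G)] = 2) {ζ : G → ℂ} (hζ : IsIrrCharacter G ζ)
    (hd : ζ 1 = p - 1) : Nat.card G = p * (p - 1) * (p - 2) := by
  obtain ⟨D⟩ := exists_PB (by omega) P S.hP he (by omega)
  obtain ⟨χ, h2, h4, hsum⟩ := D.exists_pair
  have h5 : charDegree ζ + 1 = p := by
    apply Nat.cast_injective (R := ℂ)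
    push_cast
    rw [hζ.isCharacter.coe_charDegree, hd]; simp
  obtain ⟨θ, hθ⟩ := D.Y_nonempty
  have hp' : ∀ k : ℕ, 0 < k → k < p → ¬ (p : ℤ) ∣ k := fun k h1 h2 h =>
    absurd (Nat.le_of_dvd h1 (by exact_mod_cast h)) (by omega)
  rcases D.mem_or_dvd S ⟨ζ, hζ⟩ with h | h | h
  · obtain rfl : χ = ⟨ζ, hζ⟩ := by
      classical
      by_contra n
      have h3 := hsum (fun ξ => if ξ = ⟨ζ, hζ⟩ then 1 else 0 : _ → ℕ)
      have : irrOne G ≠ ⟨ζ, hζ⟩ := fun e => by
        have : (1 : ℂ) = p - 1 := (congrArg (fun ξ : IrrCharacter G => ξ.1 1) e).trans hd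
        rw [eq_sub_iff_add_eq] at this
        norm_cast at this
        omega
      simp [h, n, this] at h3
    refine D.card_of_e2 S h4 h2 hsum (charKer_eq_bot_of_simple h2) h5 ?_ hθ
      (charKer_eq_bot_of_simple (D.ne_one_of_mem_Y hθ))
    refine (D.δ_sign _ h4).resolve_left fun e => hp' 2 two_pos (by omega) ?_
    have := (D.degX _ h4).dvd
    rw [e] at this
    exact ((dvd_refl (p : ℤ)).add this).trans
      (by change _ + (_ - (charDegree ζ : ℤ)) ∣ _; exact dvd_of_eq (by omega))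
  · have h6 := D.f_mod.dvd
    rw [← D.degY _ h] at h6
    exfalso
    rcases D.ε_sign with e | e <;> rw [e] at h6
    · refine hp' 3 (by omega) h3 ?_
      exact ((dvd_refl (p : ℤ)).add h6).trans
        (by change _ + (_ - (charDegree ζ : ℤ)) ∣ _; exact dvd_of_eq (by omega))
    · refine hp' 1 (by omega) (by omega) ?_
      exact ((dvd_refl (p : ℤ)).add h6).neg_right.trans
        (by change -(_ + (_ - (charDegree ζ : ℤ))) ∣ _; exact dvd_of_eq (by omega))
  · exact absurd (Nat.le_of_dvd hζ.charDegree_pos h) (by change ¬ p ≤ charDegree ζ; omega)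

end H10
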