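import Cfsg.Agent.H8.PDeg
import Cfsg.Agent.H8.Cod

/-! S4591, inclusion Y: a subgroup lying in the kernels of all irreducible characters of `p'`-degree. -/
set_option autoImplicit false
namespace H10.KpY
open Cfsg H5 H6 H8 Subgroup
open scoped commutatorElement

theorem key {G : Type*} [Group G] [Finite G] (p : ℕ) [hp : Fact p.Prime] (P : Sylow p G) (K : Subgroup G)
    (hK : ∀ χ, IsIrrCharacter G χ → ¬ p ∣ charDegree χ → K ≤ charKer χ) (S : Subgroup G) (hS : (P : Subgroup G) ≤ S)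
    (T A : Subgroup S) [T.Normal] [A.Normal] (hT : ⁅A, A⁆ ≤ T) (hA : ¬ p ∣ A.index) : K.subgroupOf S ≤ T := by
  classical
  haveI := Fintype.ofFinite G
  intro g hg
  by_contra e
  obtain ⟨η, h5, h2, h3⟩ := exists_irr_le_charKer_not_mem T e
  have hd : ¬ p ∣ charDegree η := fun h => hA (h.trans (deg_dvd_index_of_comm h5 A (hT.trans h2)))
  obtain ⟨χ, h7, h8⟩ := exists_constituent_not_dvd (isCharacter_ind _ h5.isCharacter) (n := p) (by
    rw [deg_ind h5.isCharacter]
    exact Nat.Prime.not_dvd_mul hp.out (fun e => P.not_dvd_index (e.trans (Subgroup.index_dvd_of_le hS))) hd)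
  rw [inner_ind_left _ _ χ.2.isClassFunction, Ne, classInner_eq_zero_comm] at h7
  exact h3 ((χ.2.isCharacter.restrict S).charKer_le_of_constituent h5 h7
    ((χ.2.isCharacter.restrict S).mem_charKer.2 (χ.2.isCharacter.mem_charKer.1 (hK _ χ.2 h8 hg))))

theorem y2 {G : Type*} [Group G] [Finite G] (p : ℕ) [hp : Fact p.Prime] (P : Sylow p G) (V : Subgroup G)
    (hV : ¬ p ∣ Nat.card V) (hK : ∀ χ, IsIrrCharacter G χ → ¬ p ∣ charDegree χ → V ≤ charKer χ) :
    V ⊓ centralizer ((P : Subgroup G) : Set G) = ⊥ := by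
  haveI : ((P : Subgroup G).subgroupOf (normalizer ((P : Subgroup G) : Set G))).Normal := normal_in_normalizer
  have h := key p P V hK (normalizer ((P : Subgroup G) : Set G)) le_normalizer
    ((P : Subgroup G).subgroupOf _) ((P : Subgroup G).subgroupOf _) (commutator_le_left _ _)
    (fun e => P.not_dvd_index (e.trans (relIndex_dvd_index_of_le le_normalizer)))
  refine eq_bot_iff.2 fun x hx => ?_
  have xP : x ∈ (P : Subgroup G) := h (x := ⟨x, centralizer_le_normalizer _ hx.2⟩) hx.1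
  obtain ⟨k, hk⟩ := (IsPGroup.iff_orderOf.1 P.isPGroup') ⟨x, xP⟩
  rw [orderOf_mk] at hk
  have h1 : orderOf x ∣ Nat.card V := V.orderOf_dvd_natCard hx.1
  rcases k with _ | k
  · exact orderOf_eq_one_iff.1 (by simpa using hk)
  · exact (hV ((dvd_pow_self p k.succ_ne_zero).trans (hk ▸ h1))).elim

theorem y3 {G : Type*} [Group G] [Finite G] (p : ℕ) [hp : Fact p.Prime] (P : Sylow p G) (N K : Subgroup G) [N.Normal]
    (hK : ∀ χ, IsIrrCharacter G χ → ¬ p ∣ charDegree χ → K ≤ charKer χ) (hle : K ≤ N ⊔ P) :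
    K ≤ N ⊔ ⁅(P : Subgroup G), (P : Subgroup G)⁆ := by
  have hc : ⁅(⊤ : Subgroup ↥(N ⊔ (P : Subgroup G))), ⊤⁆ ≤
      (N ⊔ ⁅(P : Subgroup G), (P : Subgroup G)⁆).subgroupOf (N ⊔ P) := by
    rw [commutator_le]
    rintro ⟨a, ha⟩ - ⟨b, hb⟩ -
    rw [mem_subgroupOf]
    show ⁅a, b⁆ ∈ _
    have hm : ⁅a, b⁆ ∈ ((⁅(P : Subgroup G), (P : Subgroup G)⁆).map (QuotientGroup.mk' N)).comap (QuotientGroup.mk' N) := by
      have f : ∀ c ∈ N ⊔ (P : Subgroup G), QuotientGroup.mk' N c ∈ (P : Subgroup G).map (QuotientGroup.mk' N) := by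
        intro c hc
        have : c ∈ ((P : Subgroup G).map (QuotientGroup.mk' N)).comap (QuotientGroup.mk' N) := by
          rw [comap_map_eq, QuotientGroup.ker_mk', sup_comm]; exact hc
        exact this
      rw [mem_comap, map_commutatorElement, map_commutator]
      exact commutator_mem_commutator (f a ha) (f b hb)
    rwa [comap_map_eq, QuotientGroup.ker_mk', sup_comm] at hm
  haveI : ((N ⊔ ⁅(P : Subgroup G), (P : Subgroup G)⁆).subgroupOf (N ⊔ P)).Normal := ⟨fun n hn g => by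
    have : g * n * g⁻¹ = ⁅g, n⁆ * n := by rw [commutatorElement_def]; group
    rw [this]
    exact mul_mem (hc (commutator_mem_commutator (mem_top _) (mem_top _))) hn⟩
  have h := key p P K hK (N ⊔ P) le_sup_right _ ⊤ hc (by rw [index_top]; exact hp.out.not_dvd_one)
  exact fun x hx => h (x := ⟨x, hle hx⟩) hx

end H10.KpY
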